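import Cfsg.Agent.Lib.DL9.Odd
import Cfsg.Agent.Lib.KP.Main

/-!
Commuting probability of solvable linear groups with a central fixed-point-free element of prime order.
-/

set_option autoImplicit false
set_option linter.style.haveILetI false
set_option linter.unusedSectionVars false

namespace Cfsg.Lib.KPL

open Subgroup MulAction Cfsg.Lib.SL Cfsg.Lib.KP Cfsg.Lib.DL9
open scoped Pointwise

universe u

theorem kap_le {A : Type u} {V K : Type*} [Group A] [AddCommGroup V] [DistribMulAction A V] [Field K]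
    [Module K V] {U R : Subgroup A} (h : Pr V K U R) [Nontrivial V] [FaithfulSMul A V] [Finite A] [Finite V]
    [Finite K] [Group.IsSolvable A] {e : ℕ} (h5 : U.relIndex R = e ^ 2) : U.relIndex (lin A V K) ≤ kb e := by
  obtain ⟨M, m1, m2, m3⟩ := exists_M h
  have m4 : U.relIndex M = e := Nat.pow_left_injective two_ne_zero (by
    change _ ^ 2 = e ^ 2
    rw [← h5, ← relIndex_mul_relIndex _ _ _ m1 m2, m3, sq])
  have h3 : 0 < e := m4 ▸ Nat.pos_of_ne_zero index_ne_zero_of_finite
  have hs := al_sqf h m1 m2 (m3.trans m4) m4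
  by_cases e1 : e = 1
  · rw [kap_one h (by rw [h5, e1]; rfl), e1]; rfl
  rw [kap_eq h]
  by_cases e8 : 8 ≤ e
  · have := al_gen h (by rw [h5]; nlinarith)
    rw [kb, if_neg (by omega), if_neg (by omega), if_neg (by omega), if_neg (by omega), if_neg (by omega),
      if_neg (by omega), if_neg (by omega), Nat.le_div_iff_mul_le (by norm_num)]
    rw [h5] at this ⊢
    nlinarith [Nat.mul_le_mul_left (e ^ 2) this]
  obtain rfl | rfl | rfl | rfl | rfl | rfl : e = 2 ∨ e = 3 ∨ e = 4 ∨ e = 5 ∨ e = 6 ∨ e = 7 := by omega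
  · have := hs Nat.prime_two.squarefree e1
    rw [h5] at this ⊢; norm_num [kb] at this ⊢; omega
  · have := hs Nat.prime_three.squarefree e1
    rw [h5] at this ⊢; norm_num [kb] at this ⊢; omega
  · have := al_sixteen h h5
    rw [h5]; norm_num [kb]; omega
  · have := hs Nat.prime_five.squarefree e1
    rw [h5] at this ⊢; norm_num [kb] at this ⊢; omega
  · have := hs ((Nat.squarefree_mul (by norm_num : Nat.Coprime 2 3)).2
      ⟨Nat.prime_two.squarefree, Nat.prime_three.squarefree⟩) e1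
    rw [h5] at this ⊢; norm_num [kb] at this ⊢; omega
  · have := hs (by norm_num : Nat.Prime 7).squarefree e1
    rw [h5] at this ⊢; norm_num [kb] at this ⊢; omega

section

variable {A V : Type*} [Group A] [AddCommGroup V] [DistribMulAction A V] {W : AddSubgroup V}

theorem imp_cp [Finite A] [Finite V] [FaithfulSMul A V] [Fintype (orbit A W)] (irr : Irr A V) (h0 : W ≠ ⊥)
    {c : ℚ} (c0 : 0 ≤ c)
    (h : ∀ j : orbit A W, 1 ≤ commProb (emb (stabilizer A j) (j : AddSubgroup V)).range * c) :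
    1 ≤ commProb A * (tau A (orbit A W) ^ 2 * c ^ Nat.card (orbit A W)) := by
  let K := (toPermHom A (orbit A W)).ker
  let φ : K →* ∀ j : orbit A W, (emb (stabilizer A j) (j : AddSubgroup V)).range :=
    MonoidHom.pi fun j => (emb (stabilizer A j) (j : AddSubgroup V)).rangeRestrict.comp
      (inclusion fun a ha => mem_kerP.1 ha j)
  have hφ : Function.Injective φ := (injective_iff_map_eq_one φ).2 fun a e =>
    Subtype.ext (eq_of_smul_eq_smul fun v : V => by
      rw [OneMemClass.coe_one, one_smul]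
      exact blk_fix irr h0 (fun j v hv => congrArg (fun g : (Module.End ℤ (j : AddSubgroup V))ˣ =>
        ((g • (⟨v, hv⟩ : (j : AddSubgroup V)) : (j : AddSubgroup V)) : V))
          (congrArg Subtype.val (congrFun e j))) v)
  have h2 := cp_le_of_inj φ hφ
  rw [commProb_pi] at h2
  have h3 : 1 ≤ (∏ j : orbit A W, commProb (emb (stabilizer A j) (j : AddSubgroup V)).range) *
      c ^ Nat.card (orbit A W) := by
    rw [Nat.card_eq_fintype_card, ← Finset.card_univ, ← Finset.prod_const, ← Finset.prod_mul_distrib]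
    exact Finset.one_le_prod fun j _ => h j
  calc _ ≤ _ := h3
    _ ≤ commProb A * (K.index : ℚ) ^ 2 * c ^ Nat.card (orbit A W) :=
      mul_le_mul_of_nonneg_right (h2.trans K.commProb_subgroup_le) (pow_nonneg c0 _)
    _ = _ := mul_assoc _ _ _

theorem fix_blk [Fintype (orbit A W)] (hW : Indep A W) {p : ℕ} (hp : p.Prime) {z : A} (hz : z ^ p = 1)
    (fpf : ∀ v : V, z • v = v → v = 0) (j : orbit A W) {w : V} (hw : w ∈ (j : AddSubgroup V)) (w0 : w ≠ 0) :
    z • j = j := by
  classical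
  by_contra ne
  have h1 : ∑ i ∈ Finset.range p, z ^ i • w = 0 := fpf _ (by
    have := Finset.sum_range_succ' (fun i => z ^ i • w) p
    rw [Finset.sum_range_succ, hz, pow_zero, add_left_inj] at this
    rw [Finset.smul_sum, this]
    exact Finset.sum_congr rfl fun i _ => by rw [pow_succ', mul_smul])
  have h2 := hW.eq (s := fun k => ∑ i ∈ Finset.range p with z ^ i • j = k, z ^ i • w) (s' := 0)
    (fun k => sum_mem fun i hi => (Finset.mem_filter.1 hi).2 ▸ (orbit_mem _ j w).2 hw) (fun _ => zero_mem _)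
    (by rw [Finset.sum_fiberwise, h1]; simp) j
  rw [Finset.sum_eq_single_of_mem 0 (by simp [hp.pos]) fun i hi i0 => (ne (fix_of_pow (k := i)
    (Nat.Coprime.coprime_dvd_right (orderOf_dvd_of_pow_eq_one hz) ((Nat.coprime_of_lt_prime i0
      (Finset.mem_range.1 (Finset.mem_filter.1 hi).1) hp).symm)) (Finset.mem_filter.1 hi).2)).elim] at h2
  exact w0 (by simpa using h2)

theorem cr_normal [Finite V] (irr : Irr A V) (C : Subgroup A) [nC : C.Normal] : CR C V := by
  intro M hM
  rcases subsingleton_or_nontrivial V with hs | hs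
  · exact ⟨⊥, fun _ _ _ => AddSubgroup.mem_bot.2 (Subsingleton.elim _ _), inf_bot_eq _, Subsingleton.elim _ _⟩
  obtain ⟨X, -, hX⟩ := Finite.exists_le_minimal (p := fun X : AddSubgroup V => Iv C X ∧ X ≠ ⊥) (a := ⊤)
    ⟨fun _ _ _ => trivial, top_ne_bot⟩
  have iv : ∀ (a : A) (Y : AddSubgroup V), Iv C Y → Iv C (a • Y) := fun a Y hY c v hv => by
    rw [AddSubgroup.mem_pointwise_smul_iff_inv_smul_mem] at hv ⊢
    have := hY ⟨_, nC.conj_mem _ c.2 a⁻¹⟩ _ hv
    change (a⁻¹ * c * a⁻¹⁻¹) • _ ∈ Y at this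
    rwa [inv_inv, mul_smul, mul_smul, smul_inv_smul] at this
  obtain ⟨N, -, ⟨hN, h0⟩, mx⟩ := Finite.exists_le_maximal (p := fun N : AddSubgroup V => Iv C N ∧ M ⊓ N = ⊥)
    (a := ⊥) ⟨fun _ _ hv => by simp [AddSubgroup.mem_bot.1 hv], inf_bot_eq _⟩
  have sup : ∀ {Y Z : AddSubgroup V}, Iv C Y → Iv C Z → Iv C (Y ⊔ Z) := fun hY hZ c v hv => by
    obtain ⟨y, hy, z, hz, rfl⟩ := AddSubgroup.mem_sup.1 hv
    rw [smul_add]; exact AddSubgroup.add_mem_sup (hY c y hy) (hZ c z hz)
  have key : ∀ a : A, a • X ≤ M ⊔ N := fun a => by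
    by_contra hc
    have h1 : a • X ⊓ (M ⊔ N) = ⊥ := by
      by_contra h1
      have h2 := hX.le_of_le (y := a⁻¹ • (a • X ⊓ (M ⊔ N))) ⟨iv _ _ fun c v hv =>
        ⟨iv a X hX.prop.1 c v hv.1, sup hM hN c v hv.2⟩, fun e => h1 (by
          rw [← smul_inv_smul a (a • X ⊓ (M ⊔ N)), e]; exact AddSubgroup.map_bot _)⟩ fun v hv => by
        rw [AddSubgroup.mem_inv_pointwise_smul_iff] at hv
        exact AddSubgroup.smul_mem_pointwise_smul_iff.1 hv.1
      refine hc fun v hv => ?_
      have := h2 (AddSubgroup.mem_pointwise_smul_iff_inv_smul_mem.1 hv)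
      exact (AddSubgroup.smul_mem_pointwise_smul_iff.1 this).2
    refine hc ((le_sup_right.trans (mx (y := N ⊔ a • X) ⟨sup hN (iv a X hX.prop.1), eq_bot_iff.2 fun v hv => ?_⟩
      le_sup_left)).trans le_sup_right)
    obtain ⟨y, hy, x, hx, e⟩ := AddSubgroup.mem_sup.1 hv.2
    have : x ∈ a • X ⊓ (M ⊔ N) := ⟨hx, by
      rw [eq_sub_of_add_eq' e]
      exact (M ⊔ N).sub_mem (AddSubgroup.mem_sup_left hv.1) (AddSubgroup.mem_sup_right hy)⟩
    rw [h1, AddSubgroup.mem_bot] at this
    rw [this, add_zero] at e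
    exact h0.le ⟨hv.1, e ▸ hy⟩
  refine ⟨N, hN, h0, eq_top_iff.2 (le_trans (ge_of_eq ?_) (iSup_le key))⟩
  refine (irr _ fun b v hv => ?_).resolve_left fun e => hX.prop.2 (eq_bot_iff.2
    (((one_smul A X).ge.trans (le_iSup (fun a : A => a • X) 1)).trans e.le))
  refine (iSup_le (a := (⨆ a : A, a • X).comap (DistribSMul.toAddMonoidHom V b)) fun a v hv => ?_) hv
  exact le_iSup (fun a : A => a • X) (b * a) (by
    rw [mul_smul]; exact AddSubgroup.smul_mem_pointwise_smul _ _ _ hv)

end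

theorem ord_dvd {K : Type*} [Field K] {p l i : ℕ} (hp : p.Prime) {ζ : K} (h1 : ζ ^ p = 1) (h2 : ζ ≠ 1)
    (h : ζ ^ l ^ i = ζ) : orderOf (l : ZMod p) ∣ i := by
  haveI := Fact.mk hp
  have h0 : ζ ≠ 0 := by rintro rfl; simp [hp.ne_zero] at h1
  have h3 : orderOf (Units.mk0 ζ h0) = p := orderOf_eq_prime (Units.ext (by simpa using h1))
    fun e => h2 (congrArg Units.val e)
  have h4 : Units.mk0 ζ h0 ^ l ^ i = Units.mk0 ζ h0 ^ 1 := Units.ext (by simpa using h)
  rw [pow_eq_pow_iff_modEq, h3] at h4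
  refine orderOf_dvd_of_pow_eq_one ?_
  simpa using (ZMod.natCast_eq_natCast_iff _ _ _).2 h4

theorem cpz {l p : ℕ} (hl : l.Prime) (hp : p.Prime) (n : ℕ) (A : Type*) (V : Type u) [Group A] [Finite A]
    [Group.IsSolvable A] [AddCommGroup V] [Finite V] [Nontrivial V] [DistribMulAction A V]
    (hV : Nat.card V = l ^ n) (irr : Irr A V) (z : A) (hz : z ^ p = 1) (hc : ∀ a, a * z = z * a)
    (fpf : ∀ v : V, z • v = v → v = 0) :
    ∃ d, n = orderOf (l : ZMod p) * (d + 1) ∧ 1 ≤ commProb (emb A V).range * 9 ^ d := by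
  have red : ∀ n, (∀ (A V : Type u) [Group A] [Finite A] [Group.IsSolvable A] [AddCommGroup V] [Finite V]
      [Nontrivial V] [DistribMulAction A V] [FaithfulSMul A V], Nat.card V = l ^ n → Irr A V → ∀ z : A,
      z ^ p = 1 → (∀ a, a * z = z * a) → (∀ v : V, z • v = v → v = 0) →
      ∃ d, n = orderOf (l : ZMod p) * (d + 1) ∧ 1 ≤ commProb A * 9 ^ d) → ∀ (A : Type _) (V : Type u) [Group A]
      [Finite A] [Group.IsSolvable A] [AddCommGroup V] [Finite V] [Nontrivial V] [DistribMulAction A V],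
      Nat.card V = l ^ n → Irr A V → ∀ z : A, z ^ p = 1 → (∀ a, a * z = z * a) →
      (∀ v : V, z • v = v → v = 0) →
      ∃ d, n = orderOf (l : ZMod p) * (d + 1) ∧ 1 ≤ commProb (emb A V).range * 9 ^ d :=
    fun n H A V _ _ _ _ _ _ _ hV irr z hz hc fpf => H _ V hV (irr_range irr) ((emb A V).rangeRestrict z)
      (by rw [← map_pow, hz, map_one]) (by
        rintro ⟨_, a, rfl⟩
        exact Subtype.ext (by simp [← map_mul, hc])) fpf
  refine red n ?_ A V hV irr z hz hc fpf
  clear hV red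
  induction n using Nat.strong_induction_on with
  | _ n ih =>
  intro A V _ _ _ _ _ _ _ _ hV irr z hz hc fpf
  have c0 := (commProb_pos A).le
  rcases dich' (A := A) (V := V) with ⟨W, h0, h1, hW⟩ | ⟨K, _, _, _, U, R, h⟩
  · haveI := Fintype.ofFinite (orbit A W)
    haveI : Nonempty (orbit A W) := ⟨⟨W, mem_orbit_self W⟩⟩
    have t2 := two_le_orbit irr h0 h1 hW
    have w2 := (AddSubgroup.one_lt_card_iff_ne_bot W).2 h0
    obtain ⟨m, e1, e, m0⟩ := pow_eq_pow hl t2 w2 (hV ▸ blk_pow irr h0 hW)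
    have key : ∀ j : orbit A W, ∃ d, m = orderOf (l : ZMod p) * (d + 1) ∧
        1 ≤ commProb (emb (stabilizer A j) (j : AddSubgroup V)).range * 9 ^ d := fun j => by
      haveI : Nontrivial (j : AddSubgroup V) := Finite.one_lt_card_iff_nontrivial.1 (by rw [blk_card]; exact w2)
      obtain ⟨w, hw⟩ := exists_ne (0 : (j : AddSubgroup V))
      let z' : stabilizer A j := ⟨z, fix_blk hW hp hz fpf j w.2 fun e => hw (Subtype.ext e)⟩
      exact ih m (by nlinarith) _ (j : AddSubgroup V) ((blk_card j).trans e1) (irr_range (blk_irr irr hW j))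
        ((emb _ _).rangeRestrict z') (by rw [← map_pow, show z' ^ p = 1 from Subtype.ext hz, map_one]) (by
          rintro ⟨_, a, rfl⟩
          have : a * z' = z' * a := Subtype.ext (hc a)
          exact Subtype.ext (by simp [← map_mul, this])) fun v e => Subtype.ext (fpf v (congrArg Subtype.val e))
    obtain ⟨d, hd, -⟩ := key ⟨W, mem_orbit_self W⟩
    have g0 : 0 < orderOf (l : ZMod p) := Nat.pos_of_ne_zero fun e => by simp [e] at hd; omega
    have h2 := imp_cp irr h0 (c := 9 ^ d) (by positivity) fun j => by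
      obtain ⟨d', hd', h⟩ := key j
      rwa [Nat.succ_injective (Nat.eq_of_mul_eq_mul_left g0 (hd.symm.trans hd'))]
    have h3 := tau_le A (orbit A W)
    generalize tau A (orbit A W) = τ at *
    obtain ⟨t, ht⟩ : ∃ t, Nat.card (orbit A W) = t + 1 := ⟨_, (Nat.succ_pred_eq_of_pos (by omega)).symm⟩
    rw [ht] at e h2 h3
    refine ⟨t + d * (t + 1), by rw [e, hd]; ring, h2.trans (mul_le_mul_of_nonneg_left ?_ c0)⟩
    rw [pow_add (9 : ℚ), pow_mul (9 : ℚ)]
    refine mul_le_mul_of_nonneg_right ?_ (by positivity)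
    have h4 := Nat.pow_le_pow_left (show τ ≤ 3 ^ t by rw [pow_succ] at h3; omega) 2
    rw [← pow_mul, mul_comm, pow_mul] at h4
    exact_mod_cast h4
  haveI := Fintype.ofFinite K
  obtain ⟨d, e, e1, e0, ed, e2, -⟩ := prim1 h
  obtain ⟨f, -, hf⟩ := (Nat.dvd_prime_pow hl).1 (hV ▸ e1 ▸ dvd_pow_self (Nat.card K) (by omega : d ≠ 0))
  have e4 : n = f * d := Nat.pow_right_injective hl.two_le (by
    change l ^ n = l ^ _
    rw [← hV, e1, hf, pow_mul])
  have f0 : 0 < f := Nat.pos_of_ne_zero fun e => by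
    have := Finite.one_lt_card (α := K)
    rw [hf, e] at this
    simp at this
  obtain ⟨ζ, hζ⟩ := h.sc z (h.ur.mx {z} (by simp [hc]) (by simp) (by simp [hc]) rfl)
  obtain ⟨v, hv⟩ := exists_ne (0 : V)
  have z1 : ζ ^ p = 1 := smul_left_injective K hv (by
    have : ∀ k, z ^ k • v = ζ ^ k • v := fun k => by
      induction k with
      | zero => simp
      | succ k ih => rw [pow_succ', mul_smul, ih, hζ, smul_smul, pow_succ']
    simpa [hz] using (this p).symm)
  have z2 : ζ ≠ 1 := fun e => hv (fpf v (by rw [hζ, e, one_smul]))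
  have hq : ∀ c : K, c ^ l ^ f = c := fun c => by rw [← hf, Nat.card_eq_fintype_card, FiniteField.pow_card]
  obtain ⟨s, rfl⟩ := ord_dvd hp z1 z2 (hq ζ)
  set g := orderOf (l : ZMod p)
  have g0 : 0 < g := Nat.pos_of_mul_pos_right f0
  have s0 : 0 < s := Nat.pos_of_mul_pos_left f0
  have hj : (lin A V K).index ≤ s := by
    have : ∀ a : A, ∃ i : Fin s, ∀ (c : K) (v : V), a • c • v = c ^ l ^ (g * i) • a • v := fun a => by
      obtain ⟨i, hi⟩ := semi_pow h hl hf a
      obtain ⟨k, rfl⟩ := ord_dvd (i := i) hp z1 z2 (smul_left_injective K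
        (mt (smul_eq_zero_iff_eq a).1 hv) (by
          change _ • a • v = ζ • a • v
          rw [← hi, ← hζ, ← hζ, ← mul_smul, hc, mul_smul]))
      refine ⟨⟨k % s, Nat.mod_lt _ s0⟩, fun c v => ?_⟩
      rw [hi]
      conv_lhs => rw [← Nat.div_add_mod k s, mul_add, ← mul_assoc, pow_add, pow_mul, pow_mul, ← hf,
        Nat.card_eq_fintype_card, FiniteField.pow_card_pow]
    choose i hi using this
    simpa using index_le_of_map (lin A V K) i fun a b e c v => by
      rw [mul_smul, mul_smul, hi, inv_smul_eq_iff, hi, smul_inv_smul, e]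
  obtain ⟨d, rfl⟩ := Nat.exists_eq_add_one_of_ne_zero (by omega : d ≠ 0)
  obtain ⟨s, rfl⟩ := Nat.exists_eq_add_one_of_ne_zero s0.ne'
  refine ⟨s + d * (s + 1), by rw [e4]; ring, (cost_e (Nat.pos_of_ne_zero index_ne_zero_of_finite)
    (kap_le h e2) (cp_three h)).trans ?_⟩
  rw [mul_assoc]
  refine mul_le_mul_of_nonneg_left ?_ c0
  norm_cast
  refine (Nat.mul_le_mul ((Nat.pow_le_pow_left hj 2).trans (sq_le_nine _)) (ce_le e)).trans ?_
  rw [← pow_add]
  exact Nat.pow_le_pow_right (by norm_num) (by nlinarith [Nat.sub_add_cancel e0, Nat.add_sub_cancel s 1])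

end Cfsg.Lib.KPL
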