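import Cfsg.Agent.Lib.KPL.Cost

/-!
A solvable group with `p` dividing the index of the Fitting subgroup has at least `p / (3 log p)` classes.
-/

set_option autoImplicit false
set_option linter.style.haveILetI false
set_option linter.unusedSectionVars false

namespace Cfsg.Lib.KPL

open Subgroup MulAction Cfsg.Lib.SL Cfsg.Lib.KP Cfsg.Lib.DL9 Polynomial

universe u

theorem card_sup_eq {V : Type*} [AddCommGroup V] [Finite V] {M N : AddSubgroup V} (h : M ⊓ N = ⊥) :
    Nat.card ↥(M ⊔ N) = Nat.card M * Nat.card N := by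
  refine le_antisymm ?_ (card_sup_ge h)
  rw [← Nat.card_prod]
  refine Nat.card_le_card_of_surjective (fun x : M × N => (⟨x.1 + x.2, AddSubgroup.add_mem_sup x.1.2 x.2.2⟩ :
    ↥(M ⊔ N))) fun v => ?_
  obtain ⟨x, hx, y, hy, e⟩ := AddSubgroup.mem_sup.1 v.2
  exact ⟨(⟨x, hx⟩, ⟨y, hy⟩), Subtype.ext e⟩

theorem cpz_cr {l p : ℕ} (hl : l.Prime) (hp : p.Prime) {n : ℕ} {A : Type*} {V : Type u} [Group A] [Finite A]
    [Group.IsSolvable A] [AddCommGroup V] [Finite V] [Nontrivial V] [DistribMulAction A V] [FaithfulSMul A V]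
    (hV : Nat.card V = l ^ n) (cr : CR A V) (z : A) (hz : z ^ p = 1) (hc : ∀ a, a * z = z * a)
    (fpf : ∀ v : V, z • v = v → v = 0) :
    ∃ d, n = orderOf (l : ZMod p) * (d + 1) ∧ 1 ≤ commProb A * 9 ^ d := by
  have := cr_ind cr (fun M => M = ⊥ ∨ ∃ d, Nat.card M = l ^ (orderOf (l : ZMod p) * (d + 1)) ∧
    ∃ (B : Type u) (_ : Group B) (_ : Finite B) (φ : A →* B), (∀ a, φ a = 1 → ∀ v ∈ M, a • v = v) ∧
      1 ≤ commProb B * 9 ^ d) (fun M hM irr => or_iff_not_imp_left.2 fun h0 => by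
      letI := invAct A M hM
      haveI : Nontrivial M := (AddSubgroup.nontrivial_iff_ne_bot _).2 h0
      obtain ⟨k, -, hk⟩ := (Nat.dvd_prime_pow hl).1 (hV ▸ AddSubgroup.card_addSubgroup_dvd_card M)
      obtain ⟨d, rfl, h⟩ := cpz hl hp k A M hk irr z hz hc fun v e => Subtype.ext (fpf v (congrArg Subtype.val e))
      exact ⟨d, hk, _, inferInstance, inferInstance, (emb A M).rangeRestrict, fun a e v hv =>
        congrArg (fun g : (Module.End ℤ M)ˣ => ((g • (⟨v, hv⟩ : M) : M) : V)) (congrArg Subtype.val e), h⟩) (by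
      rintro M N - - h0 (rfl | ⟨d, e, B, _, _, φ, h1, h2⟩) (rfl | ⟨d', e', B', _, _, φ', h1', h2'⟩)
      · simp
      · rw [bot_sup_eq]; exact Or.inr ⟨d', e', B', _, ‹_›, φ', h1', h2'⟩
      · rw [sup_bot_eq]; exact Or.inr ⟨d, e, B, _, ‹_›, φ, h1, h2⟩
      refine Or.inr ⟨d + d' + 1, by rw [card_sup_eq h0, e, e', ← pow_add]; congr 1; ring, B × B', inferInstance,
        inferInstance, φ.prod φ', fun a e v hv => ?_, ?_⟩
      · obtain ⟨x, hx, y, hy, rfl⟩ := AddSubgroup.mem_sup.1 hv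
        rw [smul_add, h1 a (congrArg Prod.fst e) x hx, h1' a (congrArg Prod.snd e) y hy]
      · rw [commProb_prod, pow_succ, pow_add]
        nlinarith [mul_le_mul h2 h2' zero_le_one (zero_le_one.trans h2)])
  obtain e | ⟨d, e, B, _, _, φ, h1, h2⟩ := this
  · exact (top_ne_bot e).elim
  rw [AddSubgroup.card_top, hV] at e
  exact ⟨d, Nat.pow_right_injective hl.two_le e, h2.trans (mul_le_mul_of_nonneg_right (cp_le_of_inj φ
    ((injective_iff_map_eq_one φ).2 fun a e => eq_of_smul_eq_smul fun v : V => by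
      rw [h1 a e v trivial, one_smul])) (by positivity))⟩

theorem idx_le {l p n : ℕ} [hl : Fact l.Prime] (hp : p.Prime) {A V : Type*} [Group A] [AddCommGroup V] [Finite V]
    [Nontrivial V] [DistribMulAction A V] [Module (ZMod l) V] (hV : Nat.card V = l ^ n) {z : A} (hz : z ^ p = 1)
    (hn : ∀ a, ∃ i : ℕ, a * z * a⁻¹ = z ^ i) (fpf : ∀ v : V, z • v = v → v = 0) :
    (centralizer {z}).index ≤ n := by
  haveI := Fact.mk hp
  haveI : SMulCommClass A (ZMod l) V := ⟨fun a c v => ZMod.map_smul (DistribSMul.toAddMonoidHom V a) c v⟩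
  haveI := Module.Finite.of_finite (R := ZMod l) (M := V)
  let ρ : A →* Module.End (ZMod l) V := DistribMulAction.toModuleEnd (ZMod l) V
  have int : IsIntegral (ZMod l) (ρ z) := Algebra.IsIntegral.isIntegral _
  obtain ⟨α, hα⟩ := IsAlgClosed.exists_aeval_eq_zero (AlgebraicClosure (ZMod l)) (minpoly (ZMod l) (ρ z))
    (minpoly.degree_pos int).ne'
  have root : ∀ f : (ZMod l)[X], aeval (ρ z) f = 0 → aeval α f = 0 := fun f hf => by
    obtain ⟨g, rfl⟩ := minpoly.dvd _ _ hf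
    rw [map_mul, hα, zero_mul]
  have a1 : α ^ p = 1 := by
    have := root (X ^ p - 1) (by rw [map_sub, map_pow, aeval_X, ← map_pow, hz, map_one, map_one, sub_self])
    simpa [sub_eq_zero] using this
  have a2 : α ≠ 1 := by
    rintro rfl
    have h1 : (minpoly (ZMod l) (ρ z)).IsRoot 1 := (algebraMap (ZMod l) (AlgebraicClosure (ZMod l))).injective (by
      rw [← aeval_algebraMap_apply_eq_algebraMap_eval, map_one, hα, map_zero])
    obtain ⟨v, hv⟩ := (Module.End.hasEigenvalue_iff_isRoot.2 h1).exists_hasEigenvector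
    exact hv.2 (fpf v (hv.apply_eq_smul.trans (one_smul _ v)))
  have a3 : orderOf α = p := orderOf_eq_prime a1 a2
  choose i hi using hn
  have cj : ∀ (a : A) (f : (ZMod l)[X]), aeval (ρ (a * z * a⁻¹)) f = ρ a * aeval (ρ z) f * ρ a⁻¹ := fun a f => by
    induction f using Polynomial.induction_on' with
    | add f g h1 h2 => rw [map_add, map_add, h1, h2, mul_add, add_mul]
    | monomial k c =>
      rw [aeval_monomial, aeval_monomial, ← map_pow, ← map_pow, conj_pow]
      simp only [map_mul, Algebra.algebraMap_eq_smul_one, smul_mul_assoc, one_mul, mul_smul_comm]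
  have h1 := index_le_of_map (T := (minpoly (ZMod l) (ρ z)).rootSet (AlgebraicClosure (ZMod l))) (centralizer {z})
    (fun a => ⟨α ^ i a, mem_rootSet.2 ⟨minpoly.ne_zero int, by
      have := root ((minpoly (ZMod l) (ρ z)).comp (X ^ i a)) (by
        rw [aeval_comp, map_pow, aeval_X, ← map_pow, ← hi, cj, minpoly.aeval, mul_zero, zero_mul])
      rwa [aeval_comp, map_pow, aeval_X] at this⟩⟩) fun a b e => by
    have e1 : α ^ i a = α ^ i b := congrArg Subtype.val e
    rw [(isOfFinOrder_iff_pow_eq_one.2 ⟨p, hp.pos, a1⟩).pow_eq_pow_iff_modEq, a3] at e1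
    have e2 : a * z * a⁻¹ = b * z * b⁻¹ := by
      rw [hi, hi, pow_eq_pow_iff_modEq]
      exact e1.of_dvd (orderOf_dvd_of_pow_eq_one hz)
    rw [mem_centralizer_singleton_iff, mul_assoc, mul_inv_eq_iff_eq_mul.1 e2.symm]
    group
  refine h1.trans ((ncard_rootSet_le _ _).trans ((natDegree_le_of_dvd (LinearMap.minpoly_dvd_charpoly _)
    (LinearMap.charpoly_monic _).ne_zero).trans ?_))
  rw [LinearMap.charpoly_natDegree]
  refine (Nat.pow_le_pow_iff_right hl.out.one_lt).1 (le_of_eq ?_)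
  rw [← hV, Module.natCard_eq_pow_finrank (K := ZMod l), Nat.card_zmod]

theorem log_key {p x y : ℝ} (hp : 3 ≤ p) (hx : p ≤ x) (hy : y ≤ Real.logb 2 x) :
    p * y ≤ x * Real.logb 2 p := by
  have e3 : Real.exp 1 ≤ p := Real.exp_one_lt_d9.le.trans (le_trans (by norm_num) hp)
  have h := Real.log_div_self_antitoneOn e3 (e3.trans hx) hx
  have l2 : 0 < Real.log 2 := Real.log_pos one_lt_two
  simp only at h
  rw [div_le_div_iff₀ (by linarith) (by linarith)] at h
  rw [Real.logb, le_div_iff₀ l2] at hy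
  rw [Real.logb, ← mul_div_assoc, le_div_iff₀ l2]
  nlinarith

theorem numer {p k m g d q : ℕ} (hp : 21 ≤ p) (hq : p < q) (hg : 2 ^ g ≤ q) (g0 : 0 < g) (h1 : p ≤ m * k)
    (h2 : m ≤ g * (d + 1)) (h3 : 4 * (q ^ (d + 1) - 1) ≤ k ^ 2 * m ^ 2 * 9 ^ d) :
    (p : ℝ) ≤ 3 * Real.logb 2 p * k := by
  have p3 : (3 : ℝ) ≤ p := by exact_mod_cast (show 3 ≤ p by omega)
  have g1 : (0 : ℝ) < g := by exact_mod_cast g0
  have lg : ∀ x : ℕ, ∀ y : ℝ, (2 : ℝ) ^ y ≤ x → y ≤ Real.logb 2 x := fun x y h =>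
    (Real.le_logb_iff_rpow_le one_lt_two ((Real.rpow_pos_of_pos two_pos y).trans_le h)).2 h
  rcases d with _ | d
  · simp only [zero_add, mul_one, pow_one, pow_zero] at h2 h3
    by_cases hm : (m : ℝ) ≤ 3 * Real.logb 2 p
    · exact le_trans (by exact_mod_cast h1) (mul_le_mul_of_nonneg_right hm (Nat.cast_nonneg _))
    have h4 : q ≤ (k * g) ^ 2 := by
      have := Nat.pow_le_pow_left (Nat.mul_le_mul_left k h2) 2
      rw [mul_pow] at this
      omega
    have L0 : 0 ≤ Real.logb 2 p := Real.logb_nonneg one_lt_two (by linarith)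
    have h5 : (p : ℝ) ^ 2 ≤ (2 : ℝ) ^ g := by
      have : 2 * Real.logb 2 p ≤ g := by
        have : (m : ℝ) ≤ g := by exact_mod_cast h2
        linarith
      have h := Real.rpow_le_rpow_of_exponent_le one_le_two this
      rwa [mul_comm, Real.rpow_mul zero_le_two, Real.rpow_logb two_pos (by norm_num) (by linarith),
        Real.rpow_natCast, Real.rpow_two] at h
    have h6 : (2 : ℝ) ^ g ≤ ((k * g : ℕ) : ℝ) ^ 2 := by exact_mod_cast hg.trans h4
    have := log_key p3 ((pow_le_pow_iff_left₀ (by linarith) (Nat.cast_nonneg _) two_ne_zero).1 (h5.trans h6))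
      (lg (k * g) (g / 2) ((pow_le_pow_iff_left₀ (by positivity) (Nat.cast_nonneg _) two_ne_zero).1 (by
        rwa [← Real.rpow_two, ← Real.rpow_mul zero_le_two, div_mul_cancel₀ _ two_ne_zero, Real.rpow_natCast])))
    push_cast at this
    have k0 : (0 : ℝ) ≤ k := Nat.cast_nonneg _
    nlinarith [mul_nonneg L0 k0]
  have h4 : q ≤ 3 * g * k := by
    by_contra hc
    have h6 : (d + 2) ^ 2 * 9 ^ d ≤ 4 * 21 ^ d := by
      clear h2 h3
      induction d with
      | zero => norm_num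
      | succ d ih =>
        calc _ = (d + 1 + 2) ^ 2 * 9 * 9 ^ d := by ring
          _ ≤ (d + 2) ^ 2 * 21 * 9 ^ d := Nat.mul_le_mul_right _ (by ring_nf; omega)
          _ = (d + 2) ^ 2 * 9 ^ d * 21 := by ring
          _ ≤ 4 * 21 ^ d * 21 := Nat.mul_le_mul_right _ ih
          _ = _ := by ring
    obtain ⟨r, rfl⟩ : ∃ r, q = r + 1 := ⟨q - 1, by omega⟩
    have h7 : 21 ^ d ≤ (r + 1) ^ d := Nat.pow_le_pow_left (by omega) d
    have h8 : k ^ 2 * m ^ 2 * 9 ^ (d + 1) ≤ r ^ 2 * (4 * (r + 1) ^ d) :=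
      calc _ ≤ k ^ 2 * (g * (d + 1 + 1)) ^ 2 * 9 ^ (d + 1) := by gcongr
        _ = (3 * g * k) ^ 2 * ((d + 2) ^ 2 * 9 ^ d) := by ring
        _ ≤ _ := Nat.mul_le_mul (Nat.pow_le_pow_left (by omega) 2) (by omega)
    have h9 := h3.trans h8
    have h10 : 0 < (r + 1) ^ d := by positivity
    rw [pow_succ, pow_succ] at h9
    generalize (r + 1) ^ d = y at *
    rw [mul_left_comm] at h9
    have : y * (r + 1) * (r + 1) ≤ r ^ 2 * y + 1 := by omega
    nlinarith
  have := log_key p3 (x := (3 * g * k : ℕ)) (by exact_mod_cast hq.le.trans h4)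
    (lg _ g (by rw [Real.rpow_natCast]; exact_mod_cast hg.trans h4))
  push_cast at this
  nlinarith

theorem lin_main {A V : Type u} [Group A] [Finite A] [Group.IsSolvable A] [AddCommGroup V] [Finite V]
    [DistribMulAction A V] [FaithfulSMul A V] {l p n k o : ℕ} (hl : l.Prime) (hp : p.Prime) (p21 : 21 ≤ p)
    (hV : Nat.card V = l ^ n) (irr : Irr A V) {z : A} (hz : orderOf z = p) [nz : (zpowers z).Normal]
    (h3 : Nat.card (ConjClasses A) + o ≤ k) (h4 : Nat.card V ≤ o * Nat.card A + 1) :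
    (p : ℝ) ≤ 3 * Real.logb 2 p * k := by
  haveI := Fact.mk hp
  have z1 : z ≠ 1 := by rintro rfl; simp at hz; omega
  have zp : z ^ p = 1 := hz ▸ pow_orderOf_eq_one z
  have hn : ∀ a, ∃ i : ℕ, a * z * a⁻¹ = z ^ i := fun a =>
    (mem_powers_iff_mem_zpowers.2 (nz.conj_mem z (mem_zpowers z) a)).imp fun _ => Eq.symm
  have fpf : ∀ v : V, z • v = v → v = 0 := fun v hv => by
    refine AddSubgroup.mem_bot.1 (((irr (FixedPoints.addSubgroup (zpowers z) V) fun a v hv b => ?_).resolve_right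
      fun e => z1 (eq_of_smul_eq_smul fun v : V => ?_)).le fun b => zpowers_le.2 (mem_stabilizer_iff.2 hv) b.2)
    · have := hv ⟨_, nz.conj_mem _ b.2 a⁻¹⟩
      change (a⁻¹ * b * a⁻¹⁻¹) • v = v at this
      rwa [inv_inv, mul_smul, mul_smul, inv_smul_eq_iff] at this
    · rw [one_smul]; exact e.ge (AddSubgroup.mem_top v) ⟨z, mem_zpowers z⟩
  haveI : Nontrivial V := by
    by_contra hs
    rw [not_nontrivial_iff_subsingleton] at hs
    exact z1 (eq_of_smul_eq_smul fun v : V => Subsingleton.elim _ _)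
  have eC : centralizer {z} = centralizer (zpowers z : Set A) := by rw [zpowers_eq_closure, centralizer_closure]
  haveI : (centralizer {z}).Normal := eC ▸ normal_centralizer
  obtain ⟨o', h5, h6⟩ := exists_orb (centralizer {z}) (zpowers z) nz
    (zpowers_le.2 (mem_centralizer_singleton_iff.2 rfl)) eC.le
  obtain ⟨d, hd, h7⟩ := cpz_cr hl hp hV (cr_normal irr (centralizer {z}))
    ⟨z, mem_centralizer_singleton_iff.2 rfl⟩ (Subtype.ext zp)
    (fun a => Subtype.ext (mem_centralizer_singleton_iff.1 a.2)) fpf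
  have n0 : n ≠ 0 := by rintro rfl; exact (Finite.one_lt_card (α := V)).ne' hV
  haveI := Fact.mk hl
  letI : Module (ZMod l) V := AddCommGroup.zmodModule (irr.nsmul hl (hV ▸ dvd_pow_self l n0))
  have h8 := idx_le hp hV zp hn fpf
  have g0 : 0 < orderOf (l : ZMod p) := Nat.pos_of_ne_zero fun e => by simp [e] at hd; omega
  have h9 : p < l ^ orderOf (l : ZMod p) := by
    have h1 : 1 < l ^ orderOf (l : ZMod p) := Nat.one_lt_pow g0.ne' hl.one_lt
    have := Nat.le_of_dvd (by omega) ((Nat.modEq_iff_dvd' h1.le).1 ((ZMod.natCast_eq_natCast_iff _ _ p).1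
      (by simp)))
    omega
  rw [Nat.card_zpowers, hz] at h6
  have m0 : 0 < (centralizer {z}).index := Nat.pos_of_ne_zero index_ne_zero_of_finite
  have k0 : 0 < Nat.card (ConjClasses (A ⧸ centralizer {z})) := Nat.card_pos
  refine numer p21 h9 (Nat.pow_le_pow_left hl.two_le _) g0 (m := (centralizer {z}).index) (by nlinarith)
    (hd ▸ h8) ?_
  rw [← pow_mul, ← hd, ← hV]
  have h10 := h7.trans (mul_le_mul_of_nonneg_right (centralizer {z}).commProb_subgroup_le (by positivity))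
  have a0 : (0 : ℚ) < Nat.card A := by exact_mod_cast Nat.card_pos
  rw [commProb_def', div_mul_eq_mul_div, div_mul_eq_mul_div, one_le_div a0] at h10
  have h11 : Nat.card A ≤ Nat.card (ConjClasses A) * (centralizer {z}).index ^ 2 * 9 ^ d := by exact_mod_cast h10
  calc _ ≤ 4 * (o * Nat.card A) := by omega
    _ ≤ 4 * (o * (Nat.card (ConjClasses A) * (centralizer {z}).index ^ 2 * 9 ^ d)) := by gcongr
    _ = 4 * o * Nat.card (ConjClasses A) * (centralizer {z}).index ^ 2 * 9 ^ d := by ring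
    _ ≤ _ := by
      gcongr
      nlinarith [Nat.pow_le_pow_left h3 2, sq_nonneg ((Nat.card (ConjClasses A) : ℤ) - o)]

theorem no_normal {G : Type u} [Group G] [Finite G] [Group.IsSolvable G] {p : ℕ} (hp : p.Prime) (p21 : 21 ≤ p)
    (h1 : p ∣ Nat.card G) (h2 : ¬ p ^ 2 ∣ Nat.card G) (h3 : ∀ N : Subgroup G, N.Normal → Nat.card N ≠ p) :
    (p : ℝ) ≤ 3 * Real.logb 2 p * Nat.card (ConjClasses G) := by
  haveI := Fact.mk hp
  induction hn : Nat.card G using Nat.strong_induction_on generalizing G with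
  | _ n ih =>
  haveI : Nontrivial G := Finite.one_lt_card_iff_nontrivial.1 (hp.one_lt.trans_le (Nat.le_of_dvd Nat.card_pos h1))
  obtain ⟨V, -, hV⟩ := Finite.exists_le_minimal (p := fun B : Subgroup G => B.Normal ∧ B ≠ ⊥)
    (a := ⊤) ⟨inferInstance, top_ne_bot⟩
  haveI := hV.prop.1
  have hm : ∀ W : Subgroup G, W.Normal → W ≤ V → W = ⊥ ∨ W = V := fun W nW hW =>
    or_iff_not_imp_left.2 fun h0 => le_antisymm hW (hV.le_of_le ⟨nW, h0⟩ hW)
  have hc : V ≤ centralizer (V : Set G) := commutator_eq_bot_iff_le_centralizer.1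
    ((hm _ inferInstance (commutator_le_left V V)).resolve_right
      (Group.IsSolvable.commutator_lt_of_ne_bot hV.prop.2).ne)
  let φ : G →* MulAut V := MulAut.conjNormal
  obtain ⟨o, k1, k2⟩ := exists_orb φ.ker V inferInstance (fun v hv => mem_ker_conj.2 (hc hv))
    fun g hg => mem_ker_conj.1 hg
  letI : CommGroup V := { (inferInstance : Group V) with mul_comm := fun a b => Subtype.ext (hc b.2 a a.2) }
  let ψ := QuotientGroup.kerLift φ
  letI : DistribMulAction (G ⧸ φ.ker) (Additive V) :=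
    { smul := fun g u => Additive.ofMul (ψ g u.toMul)
      one_smul := fun u => by change Additive.ofMul (ψ 1 u.toMul) = _; simp
      mul_smul := fun g g' u => by change Additive.ofMul (ψ (g * g') u.toMul) = _; rw [map_mul]; rfl
      smul_zero := fun g => congrArg Additive.ofMul (map_one _)
      smul_add := fun g u u' => congrArg Additive.ofMul (map_mul _ _ _) }
  haveI : FaithfulSMul (G ⧸ φ.ker) (Additive V) := ⟨fun {a b} e =>
    QuotientGroup.kerLift_injective φ (MulEquiv.ext fun v => e (Additive.ofMul v))⟩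
  have irr : Irr (G ⧸ φ.ker) (Additive V) := fun W hW => by
    refine (hm (W.toSubgroup'.map V.subtype) ⟨?_⟩ (map_subtype_le _)).imp (fun e => eq_bot_iff.2 fun w hw =>
      Subtype.ext (e.le ⟨w, hw, rfl⟩)) fun e => eq_top_iff.2 fun u _ => ?_
    · rintro _ ⟨w, hw, rfl⟩ g
      exact ⟨_, hW (g : G ⧸ φ.ker) (Additive.ofMul w) hw, rfl⟩
    · obtain ⟨w, hw, e⟩ := e.ge u.toMul.2
      obtain rfl : w = u.toMul := Subtype.ext e
      exact hw
  have v1 := (one_lt_card_iff_ne_bot V).2 hV.prop.2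
  obtain ⟨l, hl, hd⟩ := Nat.exists_prime_and_dvd v1.ne'
  haveI := Fact.mk hl
  obtain ⟨m, hm'⟩ := (IsPGroup.iff_card (p := l) (G := V)).1 fun v => ⟨1, by
    rw [pow_one]; exact irr.nsmul hl hd (Additive.ofMul v)⟩
  have pV : ¬ p ∣ Nat.card V := fun e => by
    obtain rfl := (Nat.prime_dvd_prime_iff_eq hp hl).1 (hp.dvd_of_dvd_pow (hm' ▸ e))
    rcases m with _ | _ | m
    · simp [hm'] at v1
    · exact h3 V inferInstance (by simpa using hm')
    · exact h2 ((pow_dvd_pow p (by omega)).trans (hm' ▸ card_subgroup_dvd_card V))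
  have hi : p ∣ V.index := (hp.dvd_mul.1 (V.card_mul_index ▸ h1)).resolve_left pV
  by_cases H : ∀ N : Subgroup (G ⧸ V), N.Normal → Nat.card N ≠ p
  · refine (ih _ (by
      have := V.card_mul_index
      have h2 : 0 < V.index := Nat.pos_of_ne_zero index_ne_zero_of_finite
      change V.index < n
      nlinarith) (G := G ⧸ V) hi (fun e => h2 (e.trans V.index_dvd_card)) H rfl).trans ?_
    exact mul_le_mul_of_nonneg_left (by exact_mod_cast classes_quot_le V) (mul_nonneg (by norm_num)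
      (Real.logb_nonneg one_lt_two (by exact_mod_cast hp.one_lt.le)))
  push Not at H
  obtain ⟨N, nN, hN⟩ := H
  obtain ⟨y, hy⟩ := exists_prime_orderOf_dvd_card' p (show p ∣ Nat.card (N.comap (QuotientGroup.mk' V)) by
    rw [← hN]
    exact card_dvd_of_surjective ((QuotientGroup.mk' V).subgroupComap N)
      ((QuotientGroup.mk' V).subgroupComap_surjective_of_surjective N (QuotientGroup.mk'_surjective V)))
  obtain ⟨x, hx⟩ := y
  rw [orderOf_mk] at hy
  have xV : x ∉ V := fun e => pV (by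
    rw [← hy, ← orderOf_mk (ha := e)]; exact orderOf_dvd_natCard _)
  have gen : zpowers (x : G ⧸ V) = N := eq_of_le_of_card_ge (zpowers_le.2 hx) (by
    rw [hN, Nat.card_zpowers, orderOf_eq_prime (x := (x : G ⧸ V)) (p := p)
      (by rw [← QuotientGroup.mk_pow, ← hy, pow_orderOf_eq_one]; rfl) (mt (QuotientGroup.eq_one_iff x).1 xV)])
  have cj : ∀ g : G, ∃ i : ℤ, (x ^ i)⁻¹ * (g * x * g⁻¹) ∈ V := fun g => by
    obtain ⟨i, hi⟩ := gen.ge (nN.conj_mem _ hx g)
    exact ⟨i, QuotientGroup.eq.1 hi⟩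
  have xC : x ∉ φ.ker := fun e => h3 (zpowers x) ⟨?_⟩ (by rw [Nat.card_zpowers, hy])
  · haveI : (zpowers (x : G ⧸ φ.ker)).Normal := ⟨by
      rintro _ ⟨j, rfl⟩ g
      obtain ⟨g, rfl⟩ := QuotientGroup.mk_surjective g
      obtain ⟨i, hi⟩ := cj g
      rw [← conj_zpow]
      exact zpow_mem (mem_zpowers_iff.2 ⟨i, QuotientGroup.eq.2 (mem_ker_conj.2 (hc hi))⟩) j⟩
    exact lin_main (A := G ⧸ φ.ker) (V := Additive V) hl hp p21 hm' irr (z := (x : G ⧸ φ.ker))
      (orderOf_eq_prime (by rw [← QuotientGroup.mk_pow, ← hy, pow_orderOf_eq_one]; rfl)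
        (mt (QuotientGroup.eq_one_iff x).1 xC)) k1 k2
  rintro _ ⟨j, rfl⟩ g
  obtain ⟨i, hi⟩ := cj g
  rw [← conj_zpow]
  refine zpow_mem (mem_zpowers_iff.2 ⟨i, ?_⟩) j
  have c1 : Commute (x ^ i) ((x ^ i)⁻¹ * (g * x * g⁻¹)) :=
    (show Commute _ x from mem_ker_conj.1 e _ hi).symm.zpow_left i
  have c2 := c1.mul_pow p
  rw [mul_inv_cancel_left, conj_pow, ← zpow_natCast (x ^ i), ← zpow_mul, mul_comm i, zpow_mul, zpow_natCast,
    ← hy, pow_orderOf_eq_one, one_zpow, one_mul, mul_one, mul_inv_cancel, hy] at c2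
  have c3 : (⟨_, hi⟩ : V) = 1 := (pow_eq_one_iff_of_coprime (hp.coprime_iff_not_dvd.2 pV)).1
    ⟨Subtype.ext c2.symm, pow_card_eq_one'⟩
  exact inv_mul_eq_one.1 (congrArg Subtype.val c3)

theorem main {G : Type u} [Group G] [Finite G] [Group.IsSolvable G] {p : ℕ} (hp : p.Prime)
    (h : p ∣ (fittingSubgroup G).index) : (p : ℝ) ≤ 3 * Real.logb 2 p * Nat.card (ConjClasses G) := by
  haveI := Fact.mk hp
  have h1 := h.trans (fittingSubgroup G).index_dvd_card
  have L : (Nat.log 2 p : ℝ) ≤ Real.logb 2 p := Real.natLog_le_logb p 2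
  have L1 : (1 : ℝ) ≤ Nat.log 2 p := by exact_mod_cast Nat.log_pos one_lt_two hp.two_le
  have k0 : (0 : ℝ) ≤ Nat.card (ConjClasses G) := Nat.cast_nonneg _
  by_cases h2 : p ^ 2 ∣ Nat.card G
  · have : (49 * p : ℝ) ≤ 60 * Nat.card (ConjClasses G) := by exact_mod_cast KP.main hp h2
    nlinarith
  by_cases p21 : 21 ≤ p
  · refine no_normal hp p21 h1 h2 fun N nN e => h2 ?_
    haveI := (IsPGroup.of_card (p := p) (n := 1) (by rw [e, pow_one])).isNilpotent
    rw [← (fittingSubgroup G).card_mul_index, sq]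
    exact Nat.mul_dvd_mul (e ▸ card_dvd_of_le (le_sSup ⟨nN, this⟩)) h
  have k2 : (2 : ℝ) ≤ Nat.card (ConjClasses G) := by
    exact_mod_cast two_le_classes fun e => hp.one_lt.ne' (Nat.dvd_one.1 (e ▸ h1))
  have : (p : ℝ) ≤ 6 * Nat.log 2 p := by
    exact_mod_cast (by decide +kernel : ∀ p < 21, 2 ≤ p → p ≤ 6 * Nat.log 2 p) p (by omega) hp.two_le
  nlinarith

end Cfsg.Lib.KPL
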